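import Cfsg.Agent.H238.Base
import Cfsg.Agent.H828.Cand
import Cfsg.Agent.OddHalf.NI.FrameSp_m3
import Cfsg.Agent.TypeM.FactsMcL
import Cfsg.Agent.CTwoTab.Co3
import Cfsg.Agent.UGT.EndJ1.Data
import Cfsg.Agent.CpAutHe.Bound
import Cfsg.Agent.KFacts.He.Classes
import Cfsg.Agent.FastGrp
import Cfsg.Agent.Prune
set_option linter.all false

section
prune_inst 0x7f00000000000000000000000000000000000000000000000000000000000000000000000000000000000000000000000000000000000000000000000000000000000000000000000000000000000000001fffffffffffffffffffffffffffbeffbdffffffff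

-- part: H828/Tools
section
set_option linter.all false
open scoped Cfsg.Agent.FastGrp

/-!
# Tools for the elimination of subgroups of Lie type in sporadic groups (helper828)

* `no_comp`, `not_cp` : groups of characteristic `p` have no components, no central extension of a group without
  normal `p`-subgroups is of characteristic `p`;
* `exists_over` : the subgroup `H = L P` of order `p ^ k * |L|`;
* `aut_transfer` : if the Sylow `p`-subgroups of `K` and `Aut(L)` have the same order, every automorphism of `L` of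
  `p`-power order is (up to conjugation in `Aut(L)`) induced by an element of `K` of the same order;
* `card_cent_dvd` : `|C_L(x)| ∣ |C_K(x)|`;
* `sylow_num` : the congruence of Sylow in a subgroup.
-/

set_option autoImplicit false
set_option linter.unusedSectionVars false

namespace Cfsg.Agent.H828.Tools

open Subgroup Cfsg Cfsg.Agent.H238
open Cfsg.Agent.H239.CharPLocal (CP cp_iff_genFitting)

universe u

/-! ### characteristic `p` -/

theorem perfect_isPGroup {p : ℕ} [Fact p.Prime] {G : Type*} [Group G] [Finite G] (h1 : IsPGroup p G)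
    (h2 : commutator G = ⊤) : Subsingleton G := by
  have h3 : Group.IsNilpotent G := h1.isNilpotent
  have h4 : Group.IsSolvable G := inferInstance
  by_contra hne
  rw [not_subsingleton_iff_nontrivial] at hne
  exact (Group.IsSolvable.commutator_lt_top_of_nontrivial G).ne h2

/-- a group of characteristic `p` has no components -/
theorem no_comp {p : ℕ} [Fact p.Prime] {G : Type*} [Group G] [Finite G] (h : CP p G) {K : Subgroup G}
    (hK : IsComponent K) : False := by
  have h1 := cp_iff_genFitting.2 h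
  have h2 : K ≤ pCore p G := by
    rw [← h1]
    exact (le_sSup (a := K) (s := {K : Subgroup G | IsComponent K}) hK).trans le_sup_left
  have h3 : IsPGroup p K := (Lib.Cores.pCore_isPGroup (G := G) p).to_le h2
  obtain ⟨-, h4, h5⟩ := hK
  have h6 := perfect_isPGroup h3 h4.commutator_eq_top
  have h7 := h5.toNontrivial
  obtain ⟨x, hx⟩ := exists_ne (1 : ↥K ⧸ center ↥K)
  obtain ⟨y, rfl⟩ := QuotientGroup.mk_surjective x
  exact hx (by rw [Subsingleton.elim y 1]; rfl)

/-- a central extension of a nontrivial group without normal `p`-subgroups is not of characteristic `p` -/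
theorem not_cp {p : ℕ} [Fact p.Prime] {C X : Type*} [Group C] [Finite C] [Group X] [Nontrivial X] (f : C →* X)
    (hf : Function.Surjective f) (hk : f.ker ≤ center C)
    (hX : ∀ N : Subgroup X, N.Normal → IsPGroup p N → N = ⊥) : ¬ CP p C := by
  intro h
  have hn := Lib.Cores.pCore_normal (G := C) p
  have hP := Lib.Cores.pCore_isPGroup (G := C) p
  have h1 : (pCore p C).map f = ⊥ := hX _ (hn.map f hf) (hP.map f)
  have h2 : pCore p C ≤ f.ker := (Subgroup.map_eq_bot_iff _).1 h1
  have h3 : centralizer (pCore p C : Set C) = ⊤ := by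
    rw [eq_top_iff]
    intro x _
    rw [mem_centralizer_iff]
    intro y hy
    exact (Subgroup.mem_center_iff.1 (hk (h2 hy)) x).symm
  have h4 : (⊤ : Subgroup C) ≤ f.ker := by
    rw [← h3]
    exact h.trans h2
  obtain ⟨x, hx⟩ := exists_ne (1 : X)
  obtain ⟨c, rfl⟩ := hf x
  exact hx (h4 (mem_top c))

theorem not_cp_simple {p : ℕ} [Fact p.Prime] {C X : Type*} [Group C] [Finite C] [Group X] [Finite X] [IsSimpleGroup X]
    (hna : ¬ ∀ a b : X, a * b = b * a) (f : C →* X)
    (hf : Function.Surjective f) (hk : f.ker ≤ center C) : ¬ CP p C := by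
  refine not_cp f hf hk fun N hN hp => ?_
  rcases hN.eq_bot_or_eq_top with h | h
  · exact h
  · exfalso
    rw [h] at hp
    have h1 : IsPGroup p X := hp.of_equiv Subgroup.topEquiv
    have h2 : Nontrivial (center X) := h1.center_nontrivial
    rcases (inferInstance : (center X).Normal).eq_bot_or_eq_top with h3 | h3
    · rw [h3] at h2
      exact (not_subsingleton_iff_nontrivial.2 h2) inferInstance
    · apply hna
      intro a b
      have : b ∈ center X := by rw [h3]; trivial
      exact Subgroup.mem_center_iff.1 this a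

/-! ### the subgroup `L P` -/

theorem relIndex_sup_of_normal {K : Type*} [Group K] {L P : Subgroup K} (hP : P ≤ normalizer (L : Set K)) :
    L.relIndex (L ⊔ P) = L.relIndex P := by
  have hH : L ⊔ P ≤ normalizer (L : Set K) := sup_le le_normalizer hP
  have hLn : (L.subgroupOf (L ⊔ P)).Normal := by
    rw [Subgroup.normal_subgroupOf_iff_le_normalizer le_sup_left]
    exact hH
  have h1 : L.relIndex (L ⊔ P) = (L.subgroupOf (L ⊔ P)).relIndex (L.subgroupOf (L ⊔ P) ⊔ P.subgroupOf (L ⊔ P)) := by
    rw [← Subgroup.subgroupOf_sup le_sup_left le_sup_right, Subgroup.subgroupOf_self, Subgroup.relIndex_top_right]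
    rfl
  have h2 : (L.subgroupOf (L ⊔ P)).relIndex (P.subgroupOf (L ⊔ P)) = L.relIndex P := by
    rw [Subgroup.relIndex_subgroupOf le_sup_right]
  rw [h1, ← h2]
  have := Subgroup.relIndex_sup_left (K := L.subgroupOf (L ⊔ P)) (H := P.subgroupOf (L ⊔ P))
  exact this

section ovr

variable {p : ℕ} [hp : Fact p.Prime] {K : Type u} [Group K] [Finite K] {L : Subgroup K} {z : K}

theorem exists_over (h : Emb p L z) {m a k : ℕ} (hm : Nat.card ↥L = m)
    (ha' : ¬ p ^ (a + 1) ∣ Nat.card K) (ha : p ^ a ∣ Nat.card K) (hk : p ^ a ∣ p ^ k * m) (hk' : ¬ p ^ (a + 1) ∣ p ^ k * m) :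
    ∃ H : Subgroup K, L ≤ H ∧ H ≤ normalizer (L : Set K) ∧ Nat.card ↥H = p ^ k * m ∧
      ∃ P : Sylow p K, (P : Subgroup K) ≤ H ∧ (P : Subgroup K) ≤ centralizer ({z} : Set K) := by
  classical
  obtain ⟨P, h1, hPz⟩ := h.syl
  have hPL : (P : Subgroup K) ≤ normalizer (L : Set K) := h1
  let H : Subgroup K := L ⊔ P
  have hHN : H ≤ normalizer (L : Set K) := sup_le le_normalizer hPL
  have hLn : (L.subgroupOf H).Normal := by
    rw [Subgroup.normal_subgroupOf_iff_le_normalizer le_sup_left]
    exact hHN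
  -- the index is a power of `p`
  have h2 : ∃ j, L.relIndex H = p ^ j := by
    have h3 : L.relIndex H = L.relIndex P := relIndex_sup_of_normal hPL
    rw [h3]
    obtain ⟨j, hj⟩ := (IsPGroup.iff_card.1 P.isPGroup')
    have h4 : L.relIndex P ∣ p ^ j := by
      rw [← hj]
      exact Subgroup.relIndex_dvd_card _ _
    obtain ⟨i, -, hi⟩ := (Nat.dvd_prime_pow hp.out).1 h4
    exact ⟨i, hi⟩
  obtain ⟨j, hj⟩ := h2
  have h5 : Nat.card ↥H = p ^ j * m := by
    have h6 := Subgroup.relIndex_mul_relIndex ⊥ L H bot_le le_sup_left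
    rw [relIndex_bot_left, relIndex_bot_left, hj, hm] at h6
    rw [← h6, mul_comm]
  refine ⟨H, le_sup_left, hHN, ?_, P, le_sup_right, hPz⟩
  have h7 : p ^ a ∣ p ^ j * m := by
    rw [← h5]
    have h8 : p ^ a ∣ Nat.card ↥(P : Subgroup K) := by
      rw [P.card_eq_multiplicity]
      exact pow_dvd_pow p ((hp.out.pow_dvd_iff_le_factorization Nat.card_pos.ne').1 ha)
    exact h8.trans (Subgroup.card_dvd_of_le le_sup_right)
  have h9 : ¬ p ^ (a + 1) ∣ p ^ j * m := by
    rw [← h5]
    exact fun h => ha' (h.trans (Subgroup.card_subgroup_dvd_card H))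
  have hm0 : m ≠ 0 := by
    rw [← hm]
    exact Nat.card_pos.ne'
  have key : ∀ i, p ^ a ∣ p ^ i * m → ¬ p ^ (a + 1) ∣ p ^ i * m → i + m.factorization p = a := by
    intro i hi1 hi2
    have h0 : p ^ i * m ≠ 0 := mul_ne_zero (pow_pos hp.out.pos _).ne' hm0
    have e : (p ^ i * m).factorization p = i + m.factorization p := by
      rw [Nat.factorization_mul (pow_pos hp.out.pos _).ne' hm0, Nat.factorization_pow]
      simp [hp.out.factorization]
    rw [hp.out.pow_dvd_iff_le_factorization h0, e] at hi1 hi2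
    omega
  have e1 := key j h7 h9
  have e2 := key k hk hk'
  have : j = k := by omega
  rw [h5, this]

/-- every automorphism of `p`-power order of `L` is realised, up to conjugation in `Aut(L)`, by an element of `K` of
the same order, if the Sylow `p`-subgroups of `Aut(L)` are not larger than those of `K` -/
theorem aut_transfer (h : Emb p L z) {X : Type*} [Group X] (e : ↥L ≃* X)
    (hle : (Nat.card (MulAut ↥L)).factorization p ≤ (Nat.card K).factorization p)
    (α : MulAut X) {n : ℕ} (hα : α ^ p ^ n = 1) :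
    ∃ (x : K) (φ : X →* K), x ∈ normalizer (L : Set K) ∧ Function.Injective φ ∧ φ.range = L ∧
      orderOf x = orderOf α ∧ ∀ y : X, x * φ y * x⁻¹ = φ (α y) := by
  classical
  obtain ⟨P, h1, -⟩ := h.syl
  let f : ↥(P : Subgroup K) →* MulAut ↥L := (L.normalizerMonoidHom).comp (Subgroup.inclusion h1)
  have hfl : ∀ (x : ↥(P : Subgroup K)) (l : ↥L), ((f x l : ↥L) : K) = (x : K) * l * (x : K)⁻¹ := fun _ _ => rfl
  have hf : Function.Injective f := by
    rw [← MonoidHom.ker_eq_bot_iff, eq_bot_iff]
    intro x hx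
    rw [MonoidHom.mem_ker] at hx
    have hxc : (x : K) ∈ centralizer (L : Set K) := by
      rw [mem_centralizer_iff]
      intro l hl
      have h3 := hfl x ⟨l, hl⟩
      rw [hx] at h3
      have h4 : l = (x : K) * l * (x : K)⁻¹ := h3
      calc l * (x : K) = (x : K) * l * (x : K)⁻¹ * x := by rw [← h4]
        _ = (x : K) * l := by group
    have h4 : orderOf (⟨(x : K), hxc⟩ : ↥(centralizer (L : Set K))) ∣ Nat.card ↥(centralizer (L : Set K)) :=
      orderOf_dvd_natCard _
    rw [Subgroup.orderOf_mk] at h4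
    obtain ⟨k, hk⟩ := (IsPGroup.iff_orderOf.mp P.isPGroup') x
    rw [← Subgroup.orderOf_coe] at hk
    rw [Subgroup.mem_bot]
    rcases Nat.eq_zero_or_pos k with h0 | h0
    · rw [h0, pow_zero, orderOf_eq_one_iff] at hk
      exact Subtype.ext hk
    · exact absurd ((dvd_pow_self p h0.ne').trans (hk ▸ h4)) h.cent
  have hfin : Finite (MulAut ↥L) := inferInstance
  -- the image is a Sylow subgroup
  have hPf : IsPGroup p f.range := P.isPGroup'.of_surjective f.rangeRestrict f.rangeRestrict_surjective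
  have hcard : Nat.card f.range = p ^ (Nat.card (MulAut ↥L)).factorization p := by
    have e1 : Nat.card f.range = p ^ (Nat.card K).factorization p := by
      rw [← P.card_eq_multiplicity]
      exact (Nat.card_congr (MonoidHom.ofInjective hf).toEquiv).symm
    apply Nat.dvd_antisymm
    · rw [e1]
      have h5 : p ^ (Nat.card K).factorization p ∣ Nat.card (MulAut ↥L) := by
        rw [← e1]
        exact Subgroup.card_subgroup_dvd_card _
      exact pow_dvd_pow p ((hp.out.pow_dvd_iff_le_factorization Nat.card_pos.ne').1 h5)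
    · rw [e1]
      exact pow_dvd_pow p hle
  let S : Sylow p (MulAut ↥L) := Sylow.ofCard f.range hcard
  -- the automorphism of `L`
  let α' : MulAut ↥L := MulAut.congr e.symm α
  have hα' : α' ^ p ^ n = 1 := by
    have : α' ^ p ^ n = MulAut.congr e.symm (α ^ p ^ n) := (map_pow _ _ _).symm
    rw [this, hα, map_one]
  have hz : IsPGroup p (zpowers α') := by
    rintro ⟨w, j, rfl⟩
    refine ⟨n, Subtype.ext ?_⟩
    change (α' ^ j) ^ p ^ n = 1
    rw [← zpow_natCast, ← zpow_mul, mul_comm, zpow_mul, zpow_natCast, hα', one_zpow]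
  obtain ⟨Q, hQ⟩ := hz.exists_le_sylow
  obtain ⟨g, hg⟩ := MulAction.exists_smul_eq (MulAut ↥L) Q S
  have h6 : g * α' * g⁻¹ ∈ (S : Subgroup (MulAut ↥L)) := by
    rw [← hg, Sylow.coe_subgroup_smul]
    exact ⟨α', hQ (mem_zpowers α'), rfl⟩
  obtain ⟨x, hx⟩ : g * α' * g⁻¹ ∈ f.range := h6
  refine ⟨x, L.subtype.comp ((g.toMonoidHom).comp e.symm.toMonoidHom), h1 x.2, ?_, ?_, ?_, ?_⟩
  · exact L.subtype_injective.comp (g.injective.comp e.symm.injective)
  · ext y
    constructor
    · rintro ⟨w, rfl⟩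
      exact (g (e.symm w)).2
    · intro hy
      refine ⟨e (g.symm ⟨y, hy⟩), ?_⟩
      change ((g (e.symm (e (g.symm ⟨y, hy⟩))) : ↥L) : K) = y
      rw [e.symm_apply_apply, g.apply_symm_apply]
  · rw [Subgroup.orderOf_coe, ← orderOf_injective f hf x, hx]
    have e2 : orderOf (g * α' * g⁻¹) = orderOf α' := by
      have := orderOf_injective (MulAut.conj g).toMonoidHom (MulAut.conj g).injective α'
      exact this
    rw [e2]
    exact orderOf_injective (MulAut.congr e.symm).toMonoidHom (MulAut.congr e.symm).injective α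
  · intro y
    have h7 := hfl x (g (e.symm y))
    rw [hx] at h7
    change (x : K) * ((g (e.symm y) : ↥L) : K) * (x : K)⁻¹ = ((g (e.symm (α y)) : ↥L) : K)
    rw [← h7]
    have h8 : (g * α' * g⁻¹) (g (e.symm y)) = g (α' (e.symm y)) := by
      change g (α' (g⁻¹ (g (e.symm y)))) = _
      rw [MulAut.inv_apply_self]
    rw [h8]
    have h9 : α' (e.symm y) = e.symm (α y) := by
      change e.symm (α (e (e.symm y))) = _
      rw [e.apply_symm_apply]
    rw [h9]

end ovr

/-! ### Sylow subgroups -/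

theorem exists_conj_mem {p : ℕ} [hp : Fact p.Prime] {K : Type*} [Group K] [Finite K] (E : Subgroup K)
    (hE : Nat.card ↥E = p ^ (Nat.card K).factorization p) {x : K} {k : ℕ} (hx : x ^ p ^ k = 1) :
    ∃ g : K, g * x * g⁻¹ ∈ E := by
  let S : Sylow p K := Sylow.ofCard E hE
  have hz : IsPGroup p (zpowers x) := by
    rintro ⟨w, j, rfl⟩
    refine ⟨k, Subtype.ext ?_⟩
    change (x ^ j) ^ p ^ k = 1
    rw [← zpow_natCast, ← zpow_mul, mul_comm, zpow_mul, zpow_natCast, hx, one_zpow]
  obtain ⟨Q, hQ⟩ := hz.exists_le_sylow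
  obtain ⟨g, hg⟩ := MulAction.exists_smul_eq K Q S
  refine ⟨g, ?_⟩
  have h6 : g * x * g⁻¹ ∈ (S : Subgroup K) := by
    rw [← hg, Sylow.coe_subgroup_smul]
    exact ⟨x, hQ (mem_zpowers x), rfl⟩
  exact h6

/-- a `p`-element centralising a Sylow `p`-subgroup lies in it -/
theorem mem_sylow_of_centralizes {p : ℕ} [hp : Fact p.Prime] {K : Type*} [Group K] [Finite K] (P : Sylow p K) {x : K}
    {k : ℕ} (hx : x ^ p ^ k = 1) (hc : (P : Subgroup K) ≤ centralizer ({x} : Set K)) : x ∈ (P : Subgroup K) := by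
  have hz : IsPGroup p (zpowers x) := by
    rintro ⟨w, j, rfl⟩
    refine ⟨k, Subtype.ext ?_⟩
    change (x ^ j) ^ p ^ k = 1
    rw [← zpow_natCast, ← zpow_mul, mul_comm, zpow_mul, zpow_natCast, hx, one_zpow]
  have hn : (P : Subgroup K) ≤ normalizer (zpowers x : Set K) := by
    intro g hg
    have h1 : Commute g x := mem_centralizer_singleton_iff.1 (hc hg)
    have key : ∀ k : ℤ, g * x ^ k * g⁻¹ = x ^ k := fun k => by
      rw [(h1.zpow_right k).eq, mul_inv_cancel_right]
    rw [mem_normalizer_iff]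
    intro h
    constructor
    · intro hh
      obtain ⟨k, rfl⟩ := mem_zpowers_iff.1 hh
      rw [key]
      exact hh
    · intro hh
      obtain ⟨k, hk⟩ := mem_zpowers_iff.1 hh
      rw [← key k] at hk
      have h2 : h = x ^ k := by
        have := congrArg (fun t => g⁻¹ * t * g) hk
        simpa [mul_assoc] using this.symm
      rw [h2]
      exact zpow_mem (mem_zpowers x) k
  have h1 : IsPGroup p ((P : Subgroup K) ⊔ zpowers x : Subgroup K) := IsPGroup.to_sup_of_normal_right' P.isPGroup' hz hn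
  have h2 : ((P : Subgroup K) ⊔ zpowers x : Subgroup K) = P := P.is_maximal' h1 le_sup_left
  rw [← h2]
  exact (le_sup_right : zpowers x ≤ _) (mem_zpowers x)

/-! ### orders of centralizers -/

/-- a subgroup of `X` commuting with `x` embeds in `C_K(x)` -/
theorem card_dvd_cent {K : Type*} [Group K] {X : Type*} [Group X] (φ : X →* K) (hφ : Function.Injective φ) (x : K)
    (D : Subgroup X) (hD : ∀ d ∈ D, x * φ d = φ d * x) :
    Nat.card ↥D ∣ Nat.card ↥(centralizer ({x} : Set K)) := by
  rw [← Subgroup.card_map_of_injective hφ]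
  apply Subgroup.card_dvd_of_le
  rintro _ ⟨d, hd, rfl⟩
  rw [mem_centralizer_singleton_iff]
  exact (hD d hd).symm

theorem card_cent_dvd {K : Type*} [Group K] (L : Subgroup K) (x : ↥L) :
    Nat.card ↥(centralizer ({x} : Set ↥L)) ∣ Nat.card ↥(centralizer ({(x : K)} : Set K)) :=
  card_dvd_cent L.subtype L.subtype_injective _ _ fun d hd => by
    rw [mem_centralizer_singleton_iff] at hd
    exact congrArg Subtype.val hd.symm

theorem card_mul_dvd_cent {K A B : Type*} [Group K] [Group A] [Group B] (f : A →* K) (g : B →* K)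
    (hf : Function.Injective f) (hg : Function.Injective g) (hfg : ∀ a b, Commute (f a) (g b))
    (hd : Disjoint f.range g.range) (x : K) (hxf : ∀ a, x * f a = f a * x) (hxg : ∀ b, x * g b = g b * x) :
    Nat.card A * Nat.card B ∣ Nat.card ↥(centralizer ({x} : Set K)) := by
  have h1 : Function.Injective (MonoidHom.noncommCoprod f g hfg) :=
    (MonoidHom.noncommCoprod_injective f g hfg).2 ⟨hf, hg, hd⟩
  have h2 := card_dvd_cent (MonoidHom.noncommCoprod f g hfg) h1 x ⊤ (by
    rintro ⟨a, b⟩ -
    rw [MonoidHom.noncommCoprod_apply]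
    rw [← mul_assoc, hxf, mul_assoc, hxg, mul_assoc])
  rwa [Subgroup.card_top, Nat.card_prod] at h2

/-! ### the congruence of Sylow -/

section syl

variable {K : Type*} [Group K] [Finite K]

theorem cent_le_norm (x : K) : centralizer ({x} : Set K) ≤ normalizer (zpowers x : Set K) := by
  intro g hg
  rw [mem_centralizer_singleton_iff] at hg
  have hgc : Commute g x := hg
  have key : ∀ k : ℤ, g * x ^ k * g⁻¹ = x ^ k := fun k => by
    rw [(hgc.zpow_right k).eq, mul_inv_cancel_right]
  rw [Subgroup.mem_normalizer_iff]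
  intro h
  constructor
  · intro hh
    obtain ⟨k, rfl⟩ := mem_zpowers_iff.1 hh
    rw [key]
    exact hh
  · intro hh
    obtain ⟨k, hk⟩ := mem_zpowers_iff.1 hh
    rw [← key k] at hk
    have h2 : h = x ^ k := by
      have := congrArg (fun t => g⁻¹ * t * g) hk
      simpa [mul_assoc] using this.symm
    rw [h2]
    exact zpow_mem (mem_zpowers x) k

/-- `|N(⟨x⟩) : C(x)|` -/
noncomputable def ne (x : K) : ℕ := (centralizer ({x} : Set K)).relIndex (normalizer (zpowers x : Set K))

theorem card_mul_ne (x : K) : Nat.card ↥(centralizer ({x} : Set K)) * ne x =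
    Nat.card ↥(normalizer (zpowers x : Set K)) := by
  have h := Subgroup.relIndex_mul_relIndex ⊥ _ _ bot_le (cent_le_norm x)
  rw [relIndex_bot_left, relIndex_bot_left] at h
  exact h

instance norm_zp (x : K) : ((zpowers x).subgroupOf (normalizer (zpowers x : Set K))).Normal :=
  Subgroup.normal_in_normalizer

theorem ker_conj (x : K) : (MulAut.conjNormal (H := (zpowers x).subgroupOf (normalizer (zpowers x : Set K)))).ker =
    (centralizer ({x} : Set K)).subgroupOf (normalizer (zpowers x : Set K)) := by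
  ext g
  rw [MonoidHom.mem_ker, mem_subgroupOf, mem_centralizer_singleton_iff]
  constructor
  · intro h
    have h1 : ((MulAut.conjNormal (H := (zpowers x).subgroupOf (normalizer (zpowers x : Set K))) g
        ⟨⟨x, Subgroup.le_normalizer (mem_zpowers x)⟩, mem_zpowers x⟩ :
        (zpowers x).subgroupOf (normalizer (zpowers x : Set K))) : normalizer (zpowers x : Set K)) =
        (⟨x, Subgroup.le_normalizer (mem_zpowers x)⟩ : normalizer (zpowers x : Set K)) := by rw [h]; rfl
    have h2 : (g : K) * x * (g : K)⁻¹ = x := congrArg Subtype.val h1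
    calc (g : K) * x = g * x * (g : K)⁻¹ * g := by group
      _ = x * g := by rw [h2]
  · intro h
    ext ⟨⟨y, hy⟩, hy'⟩
    obtain ⟨k, hk⟩ := mem_zpowers_iff.1 (show y ∈ zpowers x from hy')
    change (g : K) * y * (g : K)⁻¹ = y
    rw [← hk, (show Commute (g : K) x from h).zpow_right k |>.eq, mul_inv_cancel_right]

theorem ne_dvd (x : K) : ne x ∣ Nat.totient (orderOf x) := by
  have h1 : ne x = Nat.card (MulAut.conjNormal
      (H := (zpowers x).subgroupOf (normalizer (zpowers x : Set K)))).range := by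
    rw [ne, relIndex, ← ker_conj, Subgroup.index_ker]
  have h2 : Nat.card ↥((zpowers x).subgroupOf (normalizer (zpowers x : Set K))) = orderOf x := by
    rw [Nat.card_congr (Subgroup.subgroupOfEquivOfLe (Subgroup.le_normalizer)).toEquiv, Nat.card_zpowers]
  rw [h1, ← h2]
  have hc : IsCyclic ↥((zpowers x).subgroupOf (normalizer (zpowers x : Set K))) :=
    isCyclic_of_surjective (Subgroup.subgroupOfEquivOfLe (Subgroup.le_normalizer (H := zpowers x))).symm.toMonoidHom
      (Subgroup.subgroupOfEquivOfLe (Subgroup.le_normalizer (H := zpowers x))).symm.surjective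
  have h4 : Nat.card (MulAut ↥((zpowers x).subgroupOf (normalizer (zpowers x : Set K)))) =
      Nat.totient (Nat.card ↥((zpowers x).subgroupOf (normalizer (zpowers x : Set K)))) := IsCyclic.card_mulAut _
  rw [← h4]
  exact Subgroup.card_subgroup_dvd_card _

theorem mem_norm_coe {H : Subgroup K} (x : ↥H) {g : ↥H} :
    g ∈ normalizer (zpowers x : Set ↥H) ↔ (g : K) ∈ normalizer (zpowers (x : K) : Set K) := by
  have key : ∀ (g : ↥H), g ∈ zpowers x ↔ (g : K) ∈ zpowers (x : K) := by
    intro g
    rw [mem_zpowers_iff, mem_zpowers_iff]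
    constructor
    · rintro ⟨k, rfl⟩; exact ⟨k, rfl⟩
    · rintro ⟨k, hk⟩; exact ⟨k, Subtype.ext hk⟩
  rw [mem_normalizer_iff, mem_normalizer_iff]
  constructor
  · intro h y
    constructor
    · intro hy
      obtain ⟨k, rfl⟩ := mem_zpowers_iff.1 hy
      have := (h (x ^ k)).1 (zpow_mem (mem_zpowers x) k)
      rw [key] at this
      exact this
    · intro hy
      have hyH : (g : K) * y * (g : K)⁻¹ ∈ H := (zpowers_le.2 x.2) hy
      have hyH' : y ∈ H := by
        have := H.mul_mem (H.mul_mem (H.inv_mem g.2) hyH) g.2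
        simpa [mul_assoc] using this
      have := (h ⟨y, hyH'⟩).2 (by rw [key]; exact hy)
      rw [key] at this
      exact this
  · intro h y
    rw [key, key]
    exact h y

theorem ne_coe_dvd {H : Subgroup K} (x : ↥H) : ne x ∣ ne (x : K) := by
  have e1 : centralizer ({x} : Set ↥H) = (centralizer ({(x : K)} : Set K)).subgroupOf H := by
    ext g
    rw [mem_subgroupOf, mem_centralizer_singleton_iff, mem_centralizer_singleton_iff]
    exact ⟨fun h => congrArg Subtype.val h, fun h => Subtype.ext h⟩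
  have e2 : normalizer (zpowers x : Set ↥H) = (normalizer (zpowers (x : K) : Set K)).subgroupOf H := by
    ext g
    rw [mem_subgroupOf, mem_norm_coe]
  have h1 : ne x = (centralizer ({(x : K)} : Set K)).relIndex (normalizer (zpowers (x : K) : Set K) ⊓ H) := by
    rw [ne, e1, e2]
    have h3 : (normalizer (zpowers (x : K) : Set K)).subgroupOf H =
        (normalizer (zpowers (x : K) : Set K) ⊓ H).subgroupOf H := (inf_subgroupOf_right _ _).symm
    rw [h3, Subgroup.relIndex_subgroupOf inf_le_right]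
  rw [h1, ne]
  have hn : ((centralizer ({(x : K)} : Set K)).subgroupOf (normalizer (zpowers (x : K) : Set K))).Normal := by
    rw [← ker_conj]
    infer_instance
  have h4 : (centralizer ({(x : K)} : Set K)).relIndex (normalizer (zpowers (x : K) : Set K) ⊓ H) =
      ((centralizer ({(x : K)} : Set K)).subgroupOf (normalizer (zpowers (x : K) : Set K))).relIndex
        ((normalizer (zpowers (x : K) : Set K) ⊓ H).subgroupOf (normalizer (zpowers (x : K) : Set K))) :=
    (Subgroup.relIndex_subgroupOf inf_le_left).symm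
  rw [h4]
  exact Subgroup.relIndex_dvd_index_of_normal _ _

/-- **Sylow numerics**: `r ∥ |K|`, `x` of order `r`: `|K| = c e k` with `c = |C(x)|`, `e = |N(⟨x⟩) : C(x)|` a divisor
of `r - 1` and `k ≡ 1` mod `r`. -/
theorem sylow_num {r : ℕ} (hr : r.Prime) {x : K} (hx : orderOf x = r) (hsq : ¬ r * r ∣ Nat.card K) :
    ∃ k, Nat.card ↥(centralizer ({x} : Set K)) * ne x * k = Nat.card K ∧ k % r = 1 ∧ ne x ∣ r - 1 := by
  classical
  have : Fact r.Prime := ⟨hr⟩
  have hcz : Nat.card (zpowers x) = r := by rw [Nat.card_zpowers, hx]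
  have hidx : ¬ r ∣ (zpowers x).index := by
    intro h
    apply hsq
    rw [← Subgroup.card_mul_index (zpowers x), hcz]
    exact Nat.mul_dvd_mul_left r h
  have hP : IsPGroup r (zpowers x) := IsPGroup.of_card (n := 1) (by rw [hcz, pow_one])
  let P : Sylow r K := hP.toSylow hidx
  have hPx : (P : Subgroup K) = zpowers x := rfl
  refine ⟨(normalizer (zpowers x : Set K)).index, ?_, ?_, ?_⟩
  · rw [card_mul_ne, Subgroup.card_mul_index]
  · have h1 := card_sylow_modEq_one r K
    rw [P.card_eq_index_normalizer] at h1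
    have h2 : (normalizer (zpowers x : Set K)).index % r = 1 % r := h1
    rw [h2, Nat.mod_eq_of_lt hr.one_lt]
  · have := ne_dvd x
    rwa [hx, Nat.totient_prime hr] at this

/-- a conjugate of `H` contains `x` -/
theorem exists_conj_subgroup {r : ℕ} (hr : r.Prime) {x : K} (hx : orderOf x = r) (hsq : ¬ r * r ∣ Nat.card K)
    {H : Subgroup K} (hH : r ∣ Nat.card ↥H) : ∃ H' : Subgroup K, Nat.card ↥H' = Nat.card ↥H ∧ x ∈ H' := by
  have : Fact r.Prime := ⟨hr⟩
  obtain ⟨y, hy⟩ := exists_prime_orderOf_dvd_card' r hH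
  have hK : Nat.card K ≠ 0 := Nat.card_pos.ne'
  have h1 : (Nat.card K).factorization r = 1 := by
    apply le_antisymm
    · by_contra hlt
      apply hsq
      rw [← pow_two]
      exact (hr.pow_dvd_iff_le_factorization hK).2 (by omega)
    · exact (hr.pow_dvd_iff_le_factorization hK).1 (by rw [pow_one, ← hx]; exact orderOf_dvd_natCard x)
  obtain ⟨g, hg⟩ := exists_conj_mem (p := r) (zpowers x) (by rw [Nat.card_zpowers, hx, h1, pow_one]) (x := (y : K))
    (k := 1) (by rw [pow_one, ← hy, ← Subgroup.orderOf_coe, pow_orderOf_eq_one])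
  refine ⟨H.map (MulAut.conj g).toMonoidHom, Subgroup.card_map_of_injective (MulAut.conj g).injective, ?_⟩
  have h2 : orderOf (g * (y : K) * g⁻¹) = r := by
    rw [← hy, ← Subgroup.orderOf_coe]
    exact orderOf_injective (MulAut.conj g).toMonoidHom (MulAut.conj g).injective (y : K)
  have h3 : zpowers (g * (y : K) * g⁻¹) = zpowers x := by
    apply Subgroup.eq_of_le_of_card_ge (zpowers_le.2 hg)
    rw [Nat.card_zpowers, Nat.card_zpowers, hx, h2]
  have h4 : x ∈ zpowers (g * (y : K) * g⁻¹) := by rw [h3]; exact mem_zpowers x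
  refine (zpowers_le.2 ?_) h4
  exact ⟨(y : K), y.2, rfl⟩

/-- **Sylow numerics in a subgroup.** -/
theorem sylow_sub {r : ℕ} (hr : r.Prime) {x : K} (hx : orderOf x = r) (hsq : ¬ r * r ∣ Nat.card K)
    {H : Subgroup K} (hH : r ∣ Nat.card ↥H) : ∃ c e k, c ∣ Nat.card ↥(centralizer ({x} : Set K)) ∧ e ∣ ne x ∧
      e ∣ r - 1 ∧ r ∣ c ∧ c * e * k = Nat.card ↥H ∧ k % r = 1 := by
  obtain ⟨H', h1, h2⟩ := exists_conj_subgroup hr hx hsq hH
  have h3 : orderOf (⟨x, h2⟩ : ↥H') = r := by rw [Subgroup.orderOf_mk, hx]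
  obtain ⟨k, h4, h5, h6⟩ := sylow_num hr h3 (fun h => hsq (h.trans (Subgroup.card_subgroup_dvd_card H')))
  refine ⟨_, _, k, card_cent_dvd H' ⟨x, h2⟩, ne_coe_dvd (⟨x, h2⟩ : ↥H'), h6, ?_, by rw [h4, h1], h5⟩
  have h7 := orderOf_dvd_natCard (⟨⟨x, h2⟩, mem_centralizer_singleton_iff.2 rfl⟩ : ↥(centralizer ({⟨x, h2⟩} : Set ↥H')))
  rwa [Subgroup.orderOf_mk, h3] at h7

end syl

end Cfsg.Agent.H828.Tools

private theorem dce_3e8f173c996b : _root_.True := by
  try have : _root_.True := by simp only [_root_.Cfsg.Agent.H828.Tools.ne.eq_1]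
  exact _root_.True.intro
end

-- part: H828/KillCP
section
prune_inst 0x200000000000000000000000000000000000000000
set_option linter.all false
open scoped Cfsg.Agent.FastGrp

/-!
# The groups with `C_K(z)` not of characteristic two: McL, Ly, Co3, ON, J1 (helper828)
-/

set_option autoImplicit false
set_option linter.unusedSectionVars false

namespace Cfsg.Agent.H828.KillCP

open Subgroup Cfsg Cfsg.Agent.H238 Cfsg.Agent.H828.Tools
open Cfsg.Agent.H239.CharPLocal (CP)

universe u

theorem not_cp_qs {p : ℕ} [Fact p.Prime] {C : Type*} [Group C] [Finite C] (Q : Subgroup C) (hn : Q.Normal)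
    (hq : IsQuasisimple ↥Q) : ¬ CP p C := fun h => no_comp h ⟨hn.isSubnormal, hq⟩

/-- transport of `CP` to conjugates -/
theorem cp_conj {p : ℕ} {K : Type*} [Group K] {s t g : K} (hg : g * s * g⁻¹ = t)
    (h : CP p ↥(centralizer ({s} : Set K))) : CP p ↥(centralizer ({t} : Set K)) := by
  have e1 : (centralizer ({s} : Set K)).map (MulAut.conj g).toMonoidHom = centralizer ({t} : Set K) := by
    subst hg
    ext y
    rw [Subgroup.mem_map]
    constructor
    · rintro ⟨w, hw, rfl⟩
      rw [mem_centralizer_singleton_iff] at hw ⊢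
      have := congrArg (fun x => g * x * g⁻¹) hw
      simpa [mul_assoc] using this
    · intro hy
      refine ⟨g⁻¹ * y * g, ?_, ?_⟩
      · rw [mem_centralizer_singleton_iff] at hy ⊢
        have := congrArg (fun x => g⁻¹ * x * g) hy
        simpa [mul_assoc] using this
      · change g * (g⁻¹ * y * g) * g⁻¹ = y
        group
  rw [← e1]
  exact h.of_equiv ((centralizer ({s} : Set K)).equivMapOfInjective _ (MulAut.conj g).injective)

section two

variable {K : Type*} [Group K] [Finite K] {L : Subgroup K} {z : K}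

theorem two_sq (h : Emb 2 L z) : z * z = 1 := by rw [← pow_two, ← h.ord, pow_orderOf_eq_one]

theorem two_ne (h : Emb 2 L z) : z ≠ 1 := by
  intro h1
  have := h.ord
  rw [h1, orderOf_one] at this
  omega

open Cfsg.Agent.TypeM.Two in
theorem mt {n : ℕ} (hn : 5 ≤ n) (M : MT n K) (h : Emb 2 L z) : False := by
  obtain ⟨g, hg⟩ := M.one z (two_sq h) (two_ne h)
  have hc := cp_conj (s := z) (t := M.t) (g := g⁻¹) (by rw [← hg]; group) h.cp
  let f : ↥(centralizer ({M.t} : Set K)) →* ↥(alternatingGroup (Fin n)) :=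
    M.K.π.codRestrict _ fun x => M.K.mem_alternating x
  have hf : Function.Surjective f := by
    rintro ⟨σ, hσ⟩
    obtain ⟨x, hx⟩ := M.K.exists_lift hσ
    exact ⟨x, Subtype.ext hx⟩
  have hk : f.ker ≤ center _ := by
    intro x hx
    have h1 : M.K.π x = 1 := congrArg Subtype.val (MonoidHom.mem_ker.1 hx)
    rw [mem_center_iff]
    intro y
    rcases (M.K.ker x).1 h1 with h2 | h2
    · rw [h2, mul_one, one_mul]
    · rw [h2]; exact M.K.z_comm y
  have hs : IsSimpleGroup ↥(alternatingGroup (Fin n)) := alternatingGroup.isSimpleGroup (by simpa using hn)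
  refine not_cp_simple (p := 2) ?_ f hf hk hc
  intro hab
  have h5 : (5 : ℕ) ≤ Fintype.card (Fin n) := by simpa using hn
  have h2 : IsMulCommutative ↥(alternatingGroup (Fin n)) := ⟨⟨hab⟩⟩
  have h3 : center ↥(alternatingGroup (Fin n)) = ⊥ := alternatingGroup.center_eq_bot (by rw [Nat.card_fin]; omega)
  have h4 : center ↥(alternatingGroup (Fin n)) = ⊤ := by
    rw [eq_top_iff]
    intro x _
    rw [mem_center_iff]
    intro y
    exact hab y x
  rw [h3] at h4
  exact bot_ne_top h4

end two

theorem mcl {K : Type u} [Group K] [Finite K] (hK : Spor.IsoMcL K) {L : Subgroup K} {z : K} (h : Emb 2 L z) : False := by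
  obtain ⟨-, -, -, ⟨M⟩⟩ := TypeM.FactsMcL.facts hK
  exact mt (by norm_num) M h

theorem ly {K : Type u} [Group K] [Finite K] (hK : Spor.IsoLy K) {L : Subgroup K} {z : K} (h : Emb 2 L z) : False := by
  obtain ⟨-, -, -, ⟨M⟩⟩ := TypeM.FactsLy.facts hK
  exact mt (by norm_num) M h

open Cfsg.Agent.CTwoTab.Co3 Cfsg.Agent.SporRec.TwoSp6.Sp Cfsg.Agent.SporRec.TwoSp6.CInvol in
theorem co3_data {X : Type*} {U : Type*} [Group X] [Group U] [Finite X] {t w : X} (D : Data X U t w) {L : Subgroup X}
    {z : X} (h : Emb 2 L z) : False := by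
  obtain ⟨g, hg | hg⟩ := D.cls z h.ord
  · have hc := cp_conj (s := z) (t := t) (g := g⁻¹) (by rw [hg]; group) h.cp
    obtain ⟨π, N⟩ := D.ns
    exact not_cp_qs ⊤ inferInstance
      ((SignalizersComponents.Components.isQuasisimple_congr Subgroup.topEquiv.symm).1 (quasi_of_NS N)) hc
  · have hc := cp_conj (s := z) (t := w) (g := g⁻¹) (by rw [hg]; group) h.cp
    obtain ⟨f, hf, hk⟩ := D.hom
    have := D.simple
    have hcU := D.card
    have : Finite U := Nat.finite_of_card_ne_zero (by rw [hcU]; norm_num)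
    refine not_cp_simple (p := 2) ?_ f hf ?_ hc
    · intro hab
      let _ : CommGroup U := { (inferInstance : Group U) with mul_comm := hab }
      have h2 : (Nat.card U).Prime := IsSimpleGroup.prime_card
      rw [hcU] at h2
      norm_num at h2
    · intro x hx
      rw [mem_center_iff]
      intro y
      rcases hk x (MonoidHom.mem_ker.1 hx) with h1 | h1
      · rw [h1, mul_one, one_mul]
      · apply Subtype.ext
        have := mem_centralizer_singleton_iff.1 y.2
        change (y : X) * (x : X) = (x : X) * (y : X)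
        rw [h1]
        exact this

theorem co3 {K : Type u} [Group K] [Finite K] (hK : Spor.IsoCo3 K) {L : Subgroup K} {z : K} (h : Emb 2 L z) : False := by
  obtain ⟨e⟩ := hK
  obtain ⟨w, D⟩ := CTwoTab.Co3.exists_data
  have := CTwoTab.Co3.finite_G3
  exact co3_data D (h.congr (e.trans SporRec.Co3.Model.equivCo3.symm))

/-- a group of characteristic `p` whose `p`-part is at most `p ^ b` has no elements of order `r` if `r` does not divide
`|GL_b(p)|` -/
theorem not_cp_of_order {p r b : ℕ} [hp : Fact p.Prime] [hr : Fact r.Prime] {C : Type*} [Group C] [Finite C]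
    (h : CP p C) (hb : ¬ p ^ (b + 1) ∣ Nat.card C) (hrC : r ∣ Nat.card C) (hrp : r ≠ p)
    (hne : ∀ i < b, ¬ r ∣ p ^ (i + 1) - 1) : False := by
  obtain ⟨x, hx⟩ := exists_prime_orderOf_dvd_card' r hrC
  have hn := Lib.Cores.pCore_normal (G := C) p
  have hP := Lib.Cores.pCore_isPGroup (G := C) p
  let Q := pCore p C
  let act : MulAction ↥(zpowers x) ↥Q := MulAction.compHom ↥Q ((MulAut.conjNormal (H := Q)).comp (zpowers x).subtype)
  have hact : ∀ (g : ↥(zpowers x)) (q : ↥Q), ((g • q : ↥Q) : C) = (g : C) * q * (g : C)⁻¹ := fun _ _ => rfl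
  have hX : IsPGroup r ↥(zpowers x) := IsPGroup.of_card (n := 1) (by rw [Nat.card_zpowers, hx, pow_one])
  have h1 := hX.card_modEq_card_fixedPoints ↥Q
  have h2 : (MulAction.fixedPoints ↥(zpowers x) ↥Q) = (((centralizer ({x} : Set C)).subgroupOf Q : Subgroup ↥Q) : Set ↥Q) := by
    ext q
    rw [MulAction.mem_fixedPoints, SetLike.mem_coe, mem_subgroupOf, mem_centralizer_singleton_iff]
    constructor
    · intro hq
      have h3 := congrArg (Subtype.val) (hq ⟨x, mem_zpowers x⟩)
      rw [hact] at h3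
      calc (q : C) * x = (x * q * x⁻¹) * x := by rw [show x * (q : C) * x⁻¹ = q from h3]
        _ = x * q := by group
    · rintro hq ⟨g, hg⟩
      obtain ⟨k, rfl⟩ := mem_zpowers_iff.1 hg
      apply Subtype.ext
      rw [hact]
      have h4 : Commute x (q : C) := (show Commute (q : C) x from hq).symm
      change x ^ k * (q : C) * (x ^ k)⁻¹ = q
      rw [(h4.zpow_left k).eq, mul_inv_cancel_right]
  rw [h2] at h1
  obtain ⟨c, hc⟩ := IsPGroup.iff_card.1 hP
  obtain ⟨a, ha⟩ := IsPGroup.iff_card.1 (hP.to_subgroup ((centralizer ({x} : Set C)).subgroupOf Q))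
  have hac : a ≤ c := by
    have h5 : p ^ a ∣ p ^ c := by
      rw [← ha, ← hc]
      exact Subgroup.card_subgroup_dvd_card _
    exact (Nat.pow_dvd_pow_iff_le_right hp.out.one_lt).1 h5
  have hcb : c ≤ b := by
    by_contra hlt
    apply hb
    refine dvd_trans (pow_dvd_pow p (show b + 1 ≤ c by omega)) ?_
    rw [← hc]
    exact Subgroup.card_subgroup_dvd_card _
  have h6 : p ^ c ≡ p ^ a [MOD r] := by
    have e1 : Nat.card ↥Q = p ^ c := hc
    have e2 : Nat.card ↥(((centralizer ({x} : Set C)).subgroupOf Q : Subgroup ↥Q) : Set ↥Q) = p ^ a := ha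
    rw [e1, e2] at h1
    exact h1
  have hca : c = a := by
    by_contra hne'
    have h7 : r ∣ p ^ c - p ^ a := (Nat.modEq_iff_dvd' (Nat.pow_le_pow_right hp.out.pos hac)).1 h6.symm
    have h8 : p ^ c - p ^ a = p ^ a * (p ^ (c - a) - 1) := by
      rw [Nat.mul_sub, mul_one, ← pow_add]
      congr 2
      omega
    rw [h8] at h7
    rcases (hr.out.dvd_mul).1 h7 with h9 | h9
    · exact hrp ((Nat.prime_dvd_prime_iff_eq hr.out hp.out).1 (hr.out.dvd_of_dvd_pow h9))
    · apply hne (c - a - 1) (by omega)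
      rwa [show c - a - 1 + 1 = c - a by omega]
  have h10 : (centralizer ({x} : Set C)).subgroupOf Q = ⊤ := by
    apply Subgroup.eq_top_of_card_eq
    rw [ha, hc, hca]
  have h11 : x ∈ centralizer (Q : Set C) := by
    rw [mem_centralizer_iff]
    intro q hq
    have h12 : (⟨q, hq⟩ : ↥Q) ∈ (centralizer ({x} : Set C)).subgroupOf Q := by rw [h10]; trivial
    rw [mem_subgroupOf, mem_centralizer_singleton_iff] at h12
    exact h12
  have h13 : x ∈ Q := h h11
  obtain ⟨k, hk⟩ := (IsPGroup.iff_orderOf.mp hP) ⟨x, h13⟩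
  rw [Subgroup.orderOf_mk, hx] at hk
  rcases Nat.eq_zero_or_pos k with h0 | h0
  · rw [h0, pow_zero] at hk
    exact hr.out.one_lt.ne' hk
  · exact hrp ((Nat.prime_dvd_prime_iff_eq hr.out hp.out).1 (hr.out.dvd_of_dvd_pow (by rw [← hk])))

/-! ### `J₁` -/

theorem j1 {K : Type u} [Group K] [Finite K] (hK : Spor.IsoJ1 K) {L : Subgroup K} {z : K} (h : Emb 2 L z) : False := by
  obtain ⟨e⟩ := hK
  obtain ⟨D⟩ := UGT.EndJ1.Data.exists_dat
  have hf : Finite Spor.J1 := D.fin
  have h' := h.congr e
  have : Fact (Nat.Prime 2) := ⟨Nat.prime_two⟩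
  have : Fact (Nat.Prime 5) := ⟨by norm_num⟩
  have hE : Nat.card D.E = 2 ^ (Nat.card Spor.J1).factorization 2 := by
    have h1 : (Nat.card Spor.J1).factorization 2 = 3 := by
      rw [D.card]
      exact Cand.factorization_eq Cand.v_j1 (by decide)
    rw [h1, D.cardE]
    norm_num
  obtain ⟨g, hg⟩ := exists_conj_mem D.E hE (x := e z) (k := 1) (by rw [pow_one, ← h'.ord, pow_orderOf_eq_one])
  obtain ⟨n, hn⟩ := D.reg _ hg (by
    intro h1
    apply two_ne h'
    have := congrArg (fun x => g⁻¹ * x * g) h1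
    simpa [mul_assoc] using this)
  have hc := cp_conj (s := e z) (t := D.t) (g := (D.d ^ n)⁻¹ * g) (by
    have : D.t = (D.d ^ n)⁻¹ * (D.d ^ n * D.t * (D.d ^ n)⁻¹) * D.d ^ n := by group
    rw [this, hn]
    group) h'.cp
  refine not_cp_of_order (r := 5) (b := 3) hc ?_ ?_ (by norm_num) ?_
  · rw [D.card_C]; norm_num
  · rw [D.card_C]; norm_num
  · intro i hi
    interval_cases i <;> norm_num

/-! ### `ON` -/

open Cfsg.Agent.OddHalf in
/-- `P` is normal in `C_K(z)` -/
theorem normal_of_basic {K : Type*} [Group K] {z : K} {P : Subgroup K} (B : D8.Sheet.Basic z P) :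
    (P.subgroupOf (centralizer ({z} : Set K))).Normal := by
  have hle : P ≤ centralizer ({z} : Set K) := fun x hx => mem_centralizer_singleton_iff.2 (B.cen x hx)
  obtain ⟨m, hm⟩ := B.der
  have h1 : TR.dser m (centralizer ({z} : Set K)) = P := by
    apply le_antisymm hm
    rw [← TR.dser_of_perfect m B.perf]
    exact TR.dser_mono m hle
  rw [Subgroup.normal_subgroupOf_iff_le_normalizer hle]
  intro c hc
  rw [mem_normalizer_iff_map_conj_eq, ← h1, ← TR.dser_map]
  congr 1
  have h2 := Subgroup.le_normalizer (H := centralizer ({z} : Set K)) hc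
  rw [mem_normalizer_iff_map_conj_eq] at h2
  exact h2

theorem on {K : Type u} [Group K] [Finite K] (hK : Spor.IsoON K) {L : Subgroup K} {z : K} (h : Emb 2 L z) : False := by
  obtain ⟨t, v, P, E, S⟩ := KFacts.ON.Sheet.exists_sheet hK
  obtain ⟨Q, hQt, hQc, hQz⟩ := S.basic.syl
  obtain ⟨R, -, hR⟩ := h.syl
  obtain ⟨g, hg⟩ := MulAction.exists_smul_eq K R Q
  -- `z` lies in `R`
  have h1 : z ∈ (R : Subgroup K) := mem_sylow_of_centralizes R (k := 1) (by rw [pow_one, ← h.ord, pow_orderOf_eq_one]) hR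
  have h2 : g * z * g⁻¹ ∈ (Q : Subgroup K) := by
    rw [← hg, Sylow.coe_subgroup_smul]
    exact ⟨z, h1, rfl⟩
  have h3 : ∀ x ∈ Q, x * (g * z * g⁻¹) = (g * z * g⁻¹) * x := by
    intro x hx
    have hx' : x ∈ (Q : Subgroup K) := hx
    rw [← hg, Sylow.coe_subgroup_smul] at hx'
    obtain ⟨w, hw, rfl⟩ := hx'
    have h4 := mem_centralizer_singleton_iff.1 (hR hw)
    change g * w * g⁻¹ * (g * z * g⁻¹) = g * z * g⁻¹ * (g * w * g⁻¹)
    calc g * w * g⁻¹ * (g * z * g⁻¹) = g * (w * z) * g⁻¹ := by group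
      _ = g * (z * w) * g⁻¹ := by rw [h4]
      _ = _ := by group
  rcases hQz _ h2 h3 with h5 | h5
  · apply two_ne h
    have := congrArg (fun x => g⁻¹ * x * g) h5
    simpa [mul_assoc] using this
  · have hc := cp_conj h5 h.cp
    have hle : P ≤ centralizer ({t} : Set K) := fun x hx => mem_centralizer_singleton_iff.2 (S.basic.cen x hx)
    exact not_cp_qs _ (normal_of_basic S.basic)
      ((SignalizersComponents.Components.isQuasisimple_congr (subgroupOfEquivOfLe hle).symm).1 S.qs) hc

end Cfsg.Agent.H828.KillCP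
end

-- part: H828/KillHe
section
set_option linter.all false
open scoped Cfsg.Agent.FastGrp

/-!
# He does not contain a group `Sp₄(4).4` (helper828)

`|C(x)| = 17` and `|N(⟨x⟩) : C(x)| = 8` for `x` of order 17.
-/

set_option autoImplicit false
set_option linter.unusedSectionVars false

namespace Cfsg.Agent.H828.KillHe

open Subgroup Cfsg Cfsg.Agent.H238 Cfsg.Agent.H828.Tools Cfsg.Agent.H828.KillCP
open Cfsg.Spor.He Cfsg.Agent.SporadicB.HePerm
open Cfsg.Agent.FixBN.HeStab Cfsg.Agent.KFacts.He.Lv Cfsg.Agent.CpAutHe.Cnt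

universe u

/-- a word of order 17 -/
def X : List Gen := [.c, .g, .d, .b]

set_option maxRecDepth 100000

theorem c0 : cnt 2058 (tst X [] [1] 1921) = 1 := by
  rw [Cfsg.Agent.CpAutHe.Cnt.tst_fast]
  decide +kernel

theorem c1 : cnt 2058 (tst X [1921] [1, 3, 5] 32) = 17 := by
  rw [Cfsg.Agent.CpAutHe.Cnt.tst_fast]
  decide +kernel

theorem c2 : cnt 2058 (tst X [32, 166, 19, 722, 334, 794, 1407, 1921] [] 8) = 1 := by
  rw [Cfsg.Agent.CpAutHe.Cnt.tst_fast]
  decide +kernel

theorem c3 : cnt 2058 (tst X [32, 166, 19, 722, 334, 794, 1407, 1921] [1] 0) = 1 := by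
  rw [Cfsg.Agent.CpAutHe.Cnt.tst_fast]
  decide +kernel

theorem c4 : cnt 2058 (tst X [8, 71, 263, 1021, 2028, 1852, 814, 32, 166, 19, 722, 334, 794, 1407, 1921] [] 1) = 1 := by
  rw [Cfsg.Agent.CpAutHe.Cnt.tst_fast]
  decide +kernel

theorem s2 : ([32, 166, 19, 722, 334, 794, 1407, 1921].all fun a => elemN a (nx X [1921] 32)) = true := by
  decide +kernel

theorem s4 : ([8, 71, 263, 1021, 2028, 1852, 814, 32, 166, 19, 722, 334, 794, 1407, 1921].all fun a =>
    elemN a (nx X (nx X [1921] 32) 8)) = true := by decide +kernel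

open Cfsg.Agent.CpAutHe.Bound (sub_of_chk)

theorem card17 : Nat.card ↥(centralizer ({wd X} : Set Cfsg.Spor.He)) ≤ 17 := by
  have hC : ∀ c ∈ centralizer ({wd X} : Set Cfsg.Spor.He), c * wd X = wd X * c := fun c hc =>
    mem_centralizer_singleton_iff.1 hc
  have hF0 : ∀ c ∈ centralizer ({wd X} : Set Cfsg.Spor.He), ∀ f ∈ ([1921] : List ℕ), Fx c f := by
    intro c hc f hf
    rw [List.mem_singleton] at hf
    subst hf
    exact ⟨by norm_num, fix_of_one (hC c hc) (F := []) (fun _ hf => absurd hf List.not_mem_nil) 1921 [] [1] (fun _ h => h) c0⟩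
  have hC1 : ∀ c ∈ st (centralizer ({wd X} : Set Cfsg.Spor.He)) 32, c * wd X = wd X * c := fun c hc =>
    hC c (mem_st.1 hc).1
  have hF1 : ∀ c ∈ st (centralizer ({wd X} : Set Cfsg.Spor.He)) 32, ∀ f ∈ nx X [1921] 32, Fx c f := fun c hc =>
    fx_nx (p := 32) (hC1 c hc) (hF0 c (mem_st.1 hc).1) (mem_st.1 hc).2
  have h1 : Nat.card ↥(st (centralizer ({wd X} : Set Cfsg.Spor.He)) 32) ≤ 1 := by
    rw [Subgroup.card_le_one_iff_eq_bot, eq_bot_iff_forall]
    intro c hc
    have e3 : phi c 8 = 8 := fix_of_one (hC1 c hc) (hF1 c hc) 8 _ [] (sub_of_chk s2) c2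
    have e0 : phi c 0 = 0 := fix_of_one (hC1 c hc) (hF1 c hc) 0 _ [1] (sub_of_chk s2) c3
    have hF2 : ∀ f ∈ nx X (nx X [1921] 32) 8, Fx c f := fx_nx (p := 8) (hC1 c hc) (hF1 c hc) e3
    have e1 : phi c 1 = 1 := fix_of_one (hC1 c hc) hF2 1 _ [] (sub_of_chk s4) c4
    have e2 : phi c 32 = 32 := (mem_st.1 hc).2
    have e : ∀ i, phi (1 : Cfsg.Spor.He) i = i := fun i => by rw [map_one]; rfl
    apply eq_of_base
    · rw [e0, e]
    · rw [e1, e]
    · rw [e2, e]
    · rw [e3, e]
  exact step (F := [1921]) hC hF0 32 [1921] [1, 3, 5] (fun _ h => h) c1 h1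

theorem chk17 : chkB (pw X 17) [] = true := by decide +kernel

theorem ne17 : Nat.beq (act X 0) 0 = false := by decide +kernel

theorem order17 : orderOf (wd X) = 17 := by
  have : Fact (Nat.Prime 17) := ⟨by norm_num⟩
  refine orderOf_eq_prime ?_ ?_
  · have h := eq_of_chkB chk17
    rwa [wd_pw, wd_nil] at h
  · intro h
    have h1 := act_eq X 0
    rw [h, map_one] at h1
    have h2 : act X 0 = 0 := h1
    have h3 := ne17
    rw [h2] at h3
    simp at h3

theorem cent17 : Nat.card ↥(centralizer ({wd X} : Set Cfsg.Spor.He)) = 17 := by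
  have h1 : 17 ∣ Nat.card ↥(centralizer ({wd X} : Set Cfsg.Spor.He)) := by
    have h := orderOf_dvd_natCard (⟨wd X, mem_centralizer_singleton_iff.2 rfl⟩ : ↥(centralizer ({wd X} : Set Cfsg.Spor.He)))
    rwa [Subgroup.orderOf_mk, order17] at h
  have hf : Finite Cfsg.Spor.He := Nat.finite_of_card_ne_zero (by rw [KFacts.He.Classes.card_he]; norm_num)
  have h2 := card17
  have h3 : 0 < Nat.card ↥(centralizer ({wd X} : Set Cfsg.Spor.He)) := Nat.card_pos
  obtain ⟨k, hk⟩ := h1
  have : k = 1 := by
    rw [hk] at h2 h3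
    omega
  rw [hk, this]

theorem ne8 : ne (wd X) = 8 := by
  have hf : Finite Cfsg.Spor.He := Nat.finite_of_card_ne_zero (by rw [KFacts.He.Classes.card_he]; norm_num)
  obtain ⟨k, h1, h2, h3⟩ := sylow_num (by norm_num : Nat.Prime 17) order17 (by rw [KFacts.He.Classes.card_he]; norm_num)
  rw [cent17, KFacts.He.Classes.card_he] at h1
  have h4 : ne (wd X) ∈ Nat.divisors 16 := Nat.mem_divisors.2 ⟨h3, by norm_num⟩
  have h5 : Nat.divisors 16 = {1, 2, 4, 8, 16} := by decide +kernel
  rw [h5] at h4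
  simp only [Finset.mem_insert, Finset.mem_singleton] at h4
  rcases h4 with h | h | h | h | h <;> rw [h] at h1 ⊢ <;> omega

theorem he {K : Type u} [Group K] [Finite K] (hK : Spor.IsoHe K) {L : Subgroup K} {z : K} (h : Emb 2 L z)
    (hL : Nat.card ↥L = 979200) : False := by
  obtain ⟨e⟩ := hK
  have hf : Finite Spor.He := Finite.of_equiv _ e.toEquiv
  have hc : Nat.card Spor.He = 4030387200 := KFacts.He.Classes.card_he
  have h' := h.congr e
  have hL' : Nat.card ↥(L.map e.toMonoidHom) = 979200 := by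
    rw [Subgroup.card_map_of_injective e.injective, hL]
  obtain ⟨H, -, -, hH, -⟩ := exists_over h' (a := 10) (k := 2) hL' (by rw [hc]; norm_num) (by rw [hc]; norm_num)
    (by norm_num) (by norm_num)
  obtain ⟨c, d, k, h1, h2, -, h4, h5, h6⟩ := sylow_sub (by norm_num : Nat.Prime 17) order17 (by rw [hc]; norm_num)
    (H := H) (by rw [hH]; norm_num)
  rw [cent17] at h1
  have hc17 : c = 17 := Nat.dvd_antisymm h1 h4
  rw [ne8] at h2
  have h7 : d ∈ Nat.divisors 8 := Nat.mem_divisors.2 ⟨h2, by norm_num⟩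
  have h8 : Nat.divisors 8 = {1, 2, 4, 8} := by decide +kernel
  rw [h8] at h7
  simp only [Finset.mem_insert, Finset.mem_singleton] at h7
  rw [hH, hc17] at h5
  rcases h7 with h | h | h | h <;> rw [h] at h5 <;> norm_num at h5 <;> omega

end Cfsg.Agent.H828.KillHe
end
end
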